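import Groth.Agent.RpushColim16.Main

/-!
# Applications: colimits of diagrams of complexes
-/

set_option autoImplicit false
set_option backward.isDefEq.respectTransparency false
set_option backward.defeqAttrib.useBackward true
set_option linter.style.haveILetI false
set_option synthInstance.maxHeartbeats 200000
set_option maxHeartbeats 1000000

universe u

open CategoryTheory CategoryTheory.Limits CategoryTheory.Pretriangulated DerivedCategory AlgebraicGeometry
open HomologicalComplex
open Groth.Agent.DCat Groth.Agent.Coherent Groth.Agent.DQCoh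

attribute [local instance] HasDerivedCategory.standard

namespace Groth.Agent.RpushColim16

variable {X Y : Scheme.{u}} {J : Type u} [SmallCategory J] [IsFiltered J]
variable (f : X ⟶ Y) [DCoh.HasRpush f] [QuasiCompact f] [QuasiSeparated f]

theorem exactAt_ev_ofDiag (C : J ⥤ CochainComplex X.Modules ℤ) (n : ℤ)
    (hC : ∀ j : J, (DCoh.toD X (C.obj j)).IsGE n) (t : J) (i : ℤ) (hi : i < n) :
    ((ev t).obj (ofDiag C)).ExactAt i := by
  have h1 : IsZero (DCoh.HD (DCoh.toD X (C.obj t)) i) :=
    haveI := hC t
    DerivedCategory.isZero_of_isGE _ n i hi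
  have h2 : (C.obj t).ExactAt i :=
    (HomologicalComplex.exactAt_iff_isZero_homology _ _).2
      (h1.of_iso ((DerivedCategory.homologyFunctorFactors X.Modules i).app (C.obj t)).symm)
  exact h2

theorem isIso_unit_colimit (C : J ⥤ CochainComplex X.Modules ℤ) [HasColimit C] (n : ℤ)
    (hC : ∀ j : J, (DCoh.toD X (C.obj j)).IsGE n) (hac : ∀ j, IsIso (unitAt f (C.obj j))) :
    IsIso (unitAt f (colimit C)) := by
  haveI : IsGrothendieckAbelian.{u} X.Modules := DCat.schemeModules_isGrothendieckAbelian X
  haveI := isIso_θ_colim f (ofDiag C) n (exactAt_ev_ofDiag C n hC) fun t => isIso_θ f (hac t)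
  let e : colimit C ≅ colimHC.obj (ofDiag C) :=
    (colimit.isColimit C).coconePointsIsoOfNatIso (isColimitColimCocone (ofDiag C)) (ofDiagIso C)
  exact unit_of_θ f ((NatTrans.isIso_app_iff_of_iso (θ f) e).2 ‹_›)

/-- Cohomology of `Rf_*` commutes with uniformly bounded below filtered colimits. -/
noncomputable def isColimit_HD_diag (C : J ⥤ CochainComplex X.Modules ℤ) [HasColimit C] (n : ℤ)
    (hC : ∀ j : J, (DCoh.toD X (C.obj j)).IsGE n) (i : ℤ) :
    IsColimit ((DerivedCategory.Q ⋙ DCoh.Rpush f ⋙ DerivedCategory.homologyFunctor Y.Modules i).mapCocone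
      (colimit.cocone C)) := by
  haveI : IsGrothendieckAbelian.{u} X.Modules := DCat.schemeModules_isGrothendieckAbelian X
  haveI : PreservesColimit (ofDiag C).asFunctor
      (DerivedCategory.Q ⋙ DCoh.Rpush f ⋙ DerivedCategory.homologyFunctor Y.Modules i) :=
    preservesColimit_of_preserves_colimit_cocone (isColimitColimCocone (ofDiag C))
      (isColimit_HD_Rpush f (ofDiag C) n (exactAt_ev_ofDiag C n hC) i)
  haveI : PreservesColimit C
      (DerivedCategory.Q ⋙ DCoh.Rpush f ⋙ DerivedCategory.homologyFunctor Y.Modules i) :=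
    preservesColimit_of_iso_diagram _ (ofDiagIso C).symm
  exact isColimitOfPreserves _ (colimit.isColimit C)

/-- A morphism of modules is an isomorphism if it is so on a cover. -/
theorem isIso_of_restrict_cover {M N : Y.Modules} (φ : M ⟶ N) {ι : Type u} (U : ι → Y.Opens)
    (hU : ∀ x : Y, ∃ i, x ∈ U i)
    (h : ∀ i, IsIso ((Scheme.Modules.restrictFunctor (U i).ι).map φ)) : IsIso φ := by
  haveI : Mono φ := Preadditive.mono_of_isZero_kernel φ (isZero_of_restrict_cover _ U hU fun i =>
    haveI := h i
    (isZero_kernel_of_mono ((Scheme.Modules.restrictFunctor (U i).ι).map φ)).of_iso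
      (PreservesKernel.iso (Scheme.Modules.restrictFunctor (U i).ι) φ))
  haveI : Epi φ := Preadditive.epi_of_isZero_cokernel φ (isZero_of_restrict_cover _ U hU fun i =>
    haveI := h i
    (isZero_cokernel_of_epi ((Scheme.Modules.restrictFunctor (U i).ι).map φ)).of_iso
      (PreservesCokernel.iso (Scheme.Modules.restrictFunctor (U i).ι) φ))
  exact isIso_of_mono_of_epi φ

/-- Over an affine open `Hⁱ Rf_*` sees only a bounded below truncation. -/
theorem isIso_restrict_trunc (W : Y.Opens) {d : ℕ}
    (hd : ∀ (E : DCoh.D X), DCoh.IsQCohD E → ∀ a : ℤ, E.IsLE a → ∀ i : ℤ, a + d + 2 ≤ i →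
      IsZero ((Scheme.Modules.restrictFunctor W.ι).obj (DCoh.HD ((DCoh.Rpush f).obj E) i)))
    {K M : DCoh.D X} (π : K ⟶ M) (n : ℤ) (hK : DCoh.IsQCohD K) (hM : ∀ k, k < n → IsZero (DCoh.HD M k))
    (hπ : ∀ k, n ≤ k → IsIso ((DerivedCategory.homologyFunctor X.Modules k).map π))
    (i : ℤ) (hi : n + d + 2 ≤ i) :
    IsIso ((Scheme.Modules.restrictFunctor W.ι).map
      ((DerivedCategory.homologyFunctor Y.Modules i).map ((DCoh.Rpush f).map π))) := by
  obtain ⟨_, _⟩ := exists_commShift_Rpush f
  have hMq : DCoh.IsQCohD M := fun k => by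
    by_cases hk : k < n
    · exact isQCoh_of_isZero (hM k hk)
    · haveI := hπ k (by omega)
      exact isQCoh_of_iso (asIso ((DerivedCategory.homologyFunctor X.Modules k).map π)) (h := hK k)
  obtain ⟨C, v, w, hT⟩ := distinguished_cocone_triangle π
  have hCq : DCoh.IsQCohD C := isQCohD_obj₃ hT hK hMq
  have hC : C.IsLE (n - 1) := by
    rw [DerivedCategory.isLE_iff]
    intro k hk
    haveI := hπ k (by omega)
    haveI := hπ (k + 1) (by omega)
    refine (HomologySequence.exact₃ _ hT k (k + 1) (by omega)).isZero_of_both_zeros ?_ ?_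
    · show (DerivedCategory.homologyFunctor X.Modules k).map v = 0
      rw [← cancel_epi ((DerivedCategory.homologyFunctor X.Modules k).map π), ← Functor.map_comp,
        show π ≫ v = 0 from comp_distTriang_mor_zero₁₂ _ hT, Functor.map_zero, comp_zero]
    · show HomologySequence.δ (Triangle.mk π v w) k (k + 1) (by omega) = 0
      rw [← cancel_mono ((DerivedCategory.homologyFunctor X.Modules (k + 1)).map π), zero_comp]
      exact HomologySequence.δ_comp _ hT k (k + 1) (by omega)
  let G := Scheme.Modules.restrictFunctor W.ι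
  let T := (DCoh.Rpush f).mapTriangle.obj (Triangle.mk π v w)
  have hT' : T ∈ distTriang (DCoh.D Y) := (DCoh.Rpush f).map_distinguished _ hT
  have hz : ∀ k, i - 1 ≤ k → IsZero (G.obj ((DerivedCategory.homologyFunctor Y.Modules k).obj T.obj₃)) := fun k hk =>
    hd C hCq (n - 1) hC k (by omega)
  haveI : Mono (G.map ((DerivedCategory.homologyFunctor Y.Modules i).map T.mor₁)) :=
    ((HomologySequence.exact₁ _ hT' (i - 1) i (by omega)).map G).mono_g ((hz (i - 1) le_rfl).eq_of_src _ _)
  haveI : Epi (G.map ((DerivedCategory.homologyFunctor Y.Modules i).map T.mor₁)) :=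
    ((HomologySequence.exact₂ _ hT' i).map G).epi_f ((hz i (by omega)).eq_of_tgt _ _)
  exact isIso_of_mono_of_epi (G.map ((DerivedCategory.homologyFunctor Y.Modules i).map T.mor₁))

/-- Cohomology of `Rf_*` commutes with filtered colimits of complexes with quasi-coherent cohomology. -/
theorem isColimit_HD_qcoh (C : J ⥤ CochainComplex X.Modules ℤ) [HasColimit C]
    (hC : ∀ j : J, DCoh.IsQCohD (DCoh.toD X (C.obj j))) (i : ℤ) :
    Nonempty (IsColimit ((DerivedCategory.Q ⋙ DCoh.Rpush f ⋙ DerivedCategory.homologyFunctor Y.Modules i).mapCocone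
      (colimit.cocone C))) := by
  haveI : IsGrothendieckAbelian.{u} X.Modules := DCat.schemeModules_isGrothendieckAbelian X
  haveI : IsGrothendieckAbelian.{u} Y.Modules := DCat.schemeModules_isGrothendieckAbelian Y
  let Φ := DerivedCategory.Q ⋙ DCoh.Rpush f ⋙ DerivedCategory.homologyFunctor Y.Modules i
  let c := Φ.mapCocone (colimit.cocone C)
  suffices h : IsIso (colimit.desc (C ⋙ Φ) c) from
    haveI : IsIso ((colimit.isColimit (C ⋙ Φ)).desc c) := h
    ⟨@IsColimit.ofPointIso _ _ _ _ _ (colimit.cocone (C ⋙ Φ)) c (colimit.isColimit (C ⋙ Φ)) this⟩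
  choose W hW hxW _ using fun x : Y => exists_isAffineOpen_mem_and_subset (x := x) (U := (⊤ : Y.Opens)) trivial
  refine isIso_of_restrict_cover _ W (fun x => ⟨x, hxW x⟩) fun x => ?_
  obtain ⟨d, hd⟩ := exists_bound_restrict f (W x) (hW x)
  let n := i - d - 2
  let K := ofDiag C
  let M := K.truncGE n
  let π : K ⟶ M := K.πTruncGE n
  have hπn : ∀ k, n ≤ k → QuasiIsoAt π k := fun k hk =>
    CochainComplex.quasiIsoAt_πTruncGE K n k hk
  haveI : M.IsStrictlyGE n := inferInstanceAs (CochainComplex.IsStrictlyGE (K.truncGE n) n)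
  let G := Scheme.Modules.restrictFunctor (W x).ι
  let L := Φ ⋙ G
  have hqπ : ∀ (P : CochainComplex X.Modules ℤ) (R : CochainComplex X.Modules ℤ) (g : P ⟶ R),
      DCoh.IsQCohD (DerivedCategory.Q.obj P) → R.IsStrictlyGE n → (∀ k, n ≤ k → QuasiIsoAt g k) →
      IsIso (L.map g) := fun P R g hP hR hg => by
    haveI := hR
    refine isIso_restrict_trunc f (W x) hd (DerivedCategory.Q.map g) n hP (fun k hk => ?_) (fun k hk => ?_) i (by omega)
    · exact ((CochainComplex.exactAt_of_isGE R n k hk).isZero_homology).of_iso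
        ((DerivedCategory.homologyFunctorFactors X.Modules k).app R)
    · have : IsIso (HomologicalComplex.homologyMap g k) := (quasiIsoAt_iff_isIso_homologyMap g k).1 (hg k hk)
      exact (NatIso.isIso_map_iff (DerivedCategory.homologyFunctorFactors X.Modules k) g).2 this
  have hqK : DCoh.IsQCohD (DerivedCategory.Q.obj (colimit C)) := fun k => by
    haveI := preservesColimitsOfShape_homology (A := X.Modules) (J := J) k
    haveI : Coh.IsQCoh (colimit (C ⋙ HomologicalComplex.homologyFunctor X.Modules (ComplexShape.up ℤ) k)) :=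
      SerreDual.isQCoh_colimit X _ fun t =>
        isQCoh_of_iso ((DerivedCategory.homologyFunctorFactors X.Modules k).app (C.obj t)) (h := hC t k)
    exact isQCoh_of_iso ((preservesColimitIso (HomologicalComplex.homologyFunctor X.Modules (ComplexShape.up ℤ) k) C).symm ≪≫
      (DerivedCategory.homologyFunctorFactors X.Modules k).symm.app (colimit C)) (h := ‹_›)
  let e : colimit C ≅ colimHC.obj K :=
    (colimit.isColimit C).coconePointsIsoOfNatIso (isColimitColimCocone K) (ofDiagIso C)
  let σ : C ⟶ M.asFunctor :=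
    (ofDiagIso C).hom ≫ HomologicalComplex.complexOfFunctorsToFunctorToComplex.map π
  let σi : colimit C ⟶ colimHC.obj M := e.hom ≫ colimHC.map π
  have hσ : ∀ t, IsIso (L.map (σ.app t)) := fun t => by
    haveI : IsIso (L.map ((HomologicalComplex.complexOfFunctorsToFunctorToComplex.map π).app t)) :=
      hqπ _ _ _ (isQCohD_of_iso (DerivedCategory.Q.mapIso ((ofDiagIso C).app t)) (hC t))
        ((CochainComplex.isStrictlyGE_iff _ _).2 fun k hk =>
          ((evaluation J X.Modules).obj t).map_isZero (CochainComplex.isZero_of_isStrictlyGE M n k hk))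
        (fun k hk => by
          haveI := hπn k hk
          exact inferInstanceAs (QuasiIsoAt ((ev t).map π) k))
    show IsIso (L.map (_ ≫ _))
    rw [L.map_comp]
    infer_instance
  have hσi : IsIso (L.map σi) := by
    haveI : IsIso (L.map (colimHC.map π)) :=
      hqπ _ _ _ (isQCohD_of_iso (DerivedCategory.Q.mapIso e) hqK)
        ((CochainComplex.isStrictlyGE_iff _ _).2 fun k hk =>
          colim.map_isZero (CochainComplex.isZero_of_isStrictlyGE M n k hk))
        (fun k hk => by
          haveI := hπn k hk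
          exact inferInstance)
    show IsIso (L.map (_ ≫ _))
    rw [L.map_comp]
    infer_instance
  have hM : ∀ t, ∀ k < n, ((ev t).obj M).ExactAt k := fun t k hk =>
    HomologicalComplex.exactAt_iff_isZero_homology _ _ |>.2
      (HomologicalComplex.ExactAt.isZero_homology (ShortComplex.exact_of_isZero_X₂ _
        (((evaluation J X.Modules).obj t).map_isZero (CochainComplex.isZero_of_isStrictlyGE M n k hk))))
  haveI : PreservesColimitsOfSize.{u, u} G :=
    (Scheme.Modules.restrictAdjunction (W x).ι).leftAdjoint_preservesColimits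
  have hLM : IsColimit (L.mapCocone (colimCocone M)) :=
    isColimitOfPreserves G (isColimit_HD_Rpush f M n hM i)
  haveI := hσi
  haveI : ∀ t, IsIso ((Functor.whiskerRight σ L).app t) := hσ
  haveI : IsIso (Functor.whiskerRight σ L) := NatIso.isIso_of_isIso_app _
  have hLC : IsColimit (L.mapCocone (colimit.cocone C)) :=
    IsColimit.ofIsoColimit ((IsColimit.precomposeHomEquiv (asIso (Functor.whiskerRight σ L)) _).symm hLM)
      (Cocone.ext (asIso (L.map σi)).symm fun t => by
        have hc : σ.app t ≫ (colimCocone M).ι.app t = colimit.ι C t ≫ σi := by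
          have he : colimit.ι C t ≫ e.hom = (ofDiagIso C).hom.app t ≫ (colimCocone K).ι.app t :=
            IsColimit.comp_coconePointsIsoOfNatIso_hom _ _ _ t
          show ((ofDiagIso C).hom.app t ≫ _) ≫ _ = colimit.ι C t ≫ e.hom ≫ colimHC.map π
          rw [reassoc_of% he, Category.assoc]
          congr 1
          refine HomologicalComplex.hom_ext _ _ fun j => ?_
          exact (ι_colimMap (π.f j) t).symm
        show (L.map (σ.app t) ≫ L.map ((colimCocone M).ι.app t)) ≫ inv (L.map σi) = _
        rw [IsIso.comp_inv_eq, ← L.map_comp, hc, L.map_comp]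
        rfl)
  have h1 := isColimitOfPreserves G (colimit.isColimit (C ⋙ Φ))
  have he : G.map (colimit.desc (C ⋙ Φ) c) = h1.desc (L.mapCocone (colimit.cocone C)) :=
    h1.hom_ext fun t => by
      rw [h1.fac]
      exact (G.map_comp _ _).symm.trans (congrArg G.map (colimit.ι_desc c t))
  rw [he]
  exact (h1.coconePointUniqueUpToIso hLC).isIso_hom

end Groth.Agent.RpushColim16
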