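import Mathlib.Algebra.Homology.Functor
import Mathlib.Algebra.Homology.HomologicalComplexLimits
import Mathlib.CategoryTheory.Abelian.GrothendieckAxioms.Basic
import Mathlib.CategoryTheory.Abelian.FunctorCategory
import Mathlib.CategoryTheory.Adjunction.Evaluation
import Mathlib

/-!
# Filtered colimits of complexes through complexes of diagrams
-/

set_option autoImplicit false
set_option backward.isDefEq.respectTransparency false
set_option backward.defeqAttrib.useBackward true
set_option linter.style.haveILetI false

universe u v

open CategoryTheory CategoryTheory.Limits HomologicalComplex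

namespace Groth.Agent.RpushColim16

variable {A : Type v} [Category.{u} A] [Abelian A] {J : Type u} [SmallCategory J]

/-- A diagram of complexes as a complex of diagrams. -/
@[simps]
def ofDiag (C : J ⥤ CochainComplex A ℤ) : CochainComplex (J ⥤ A) ℤ where
  X n := C ⋙ HomologicalComplex.eval A (ComplexShape.up ℤ) n
  d i j := { app := fun t => (C.obj t).d i j, naturality := fun _ _ g => (C.map g).comm i j }
  shape i j h := by ext t; exact (C.obj t).shape i j h
  d_comp_d' i j k _ _ := by ext t; exact (C.obj t).d_comp_d i j k

/-- The diagram of a complex of diagrams of a diagram. -/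
def ofDiagIso (C : J ⥤ CochainComplex A ℤ) : C ≅ (ofDiag C).asFunctor :=
  NatIso.ofComponents (fun t => Hom.isoOfComponents (fun _ => Iso.refl _) (by simp)) (by intros; ext; simp)

/-- Evaluation of a complex of diagrams. -/
abbrev ev (t : J) : CochainComplex (J ⥤ A) ℤ ⥤ CochainComplex A ℤ :=
  ((evaluation J A).obj t).mapHomologicalComplex (ComplexShape.up ℤ)

section Inj

theorem injective_obj [HasColimitsOfSize.{u, u} A] [AB4OfSize.{u} A] (I : J ⥤ A) [Injective I] (t : J) :
    Injective (I.obj t) := by
  haveI : (evaluationLeftAdjoint A t).PreservesMonomorphisms := ⟨fun {P Q} g hg => by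
    haveI : ∀ e : J, Mono (((evaluationLeftAdjoint A t).map g).app e) := fun e => by
      show Mono (Sigma.desc fun h => g ≫ Sigma.ι (fun _ => Q) h)
      have he : (Sigma.desc fun h => g ≫ Sigma.ι (fun _ : t ⟶ e => Q) h) = Limits.Sigma.map fun _ : t ⟶ e => g :=
        Sigma.hom_ext _ _ fun h => by simp
      rw [he]
      haveI : ∀ k : Discrete (t ⟶ e), Mono ((Discrete.natTrans (F := Discrete.functor fun _ : t ⟶ e => P) (G := Discrete.functor fun _ : t ⟶ e => Q) fun _ => g).app k) :=
        fun k => hg
      haveI := NatTrans.mono_of_mono_app (Discrete.natTrans (F := Discrete.functor fun _ : t ⟶ e => P) (G := Discrete.functor fun _ : t ⟶ e => Q) fun _ => g)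
      exact colim.map_mono (Discrete.natTrans (F := Discrete.functor fun _ : t ⟶ e => P) (G := Discrete.functor fun _ : t ⟶ e => Q) fun _ => g)
    exact NatTrans.mono_of_mono_app _⟩
  exact Injective.injective_of_adjoint (evaluationAdjunctionRight A t) I

theorem enoughInjectives_functor [HasLimitsOfSize.{u, u} A] [EnoughInjectives A] : EnoughInjectives (J ⥤ A) where
  presentation F := by
    let c : J → (J ⥤ A) := fun t => (evaluationRightAdjoint A t).obj (Injective.under (F.obj t))
    haveI : ∀ t, Injective (c t) := fun t =>
      Injective.injective_of_adjoint (evaluationAdjunctionLeft A t) _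
    let φ : F ⟶ ∏ᶜ c := Pi.lift fun t => ((evaluationAdjunctionLeft A t).homEquiv _ _) (Injective.ι (F.obj t))
    haveI : ∀ t, Mono (φ.app t) := fun t => by
      have h : φ.app t ≫ (Pi.π c t).app t ≫ (evaluationAdjunctionLeft A t).counit.app _ = Injective.ι (F.obj t) := by
        rw [← Category.assoc, ← NatTrans.comp_app, Pi.lift_π]
        exact ((evaluationAdjunctionLeft A t).homEquiv_counit _ _ _).symm.trans
          (((evaluationAdjunctionLeft A t).homEquiv _ _).symm_apply_apply _)
      exact mono_of_mono_fac h
    exact ⟨⟨∏ᶜ c, inferInstance, φ, NatTrans.mono_of_mono_app φ⟩⟩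

end Inj

theorem exactAt_of_ev (K : CochainComplex (J ⥤ A) ℤ) (i : ℤ) (h : ∀ t, ((ev t).obj K).ExactAt i) : K.ExactAt i := by
  rw [exactAt_iff_isZero_homology]
  refine (IsZero.iff_id_eq_zero _).2 ?_
  ext t
  exact ((isZero_homology_ev K i t (h t))).eq_of_src _ _
where
  isZero_homology_ev (K : CochainComplex (J ⥤ A) ℤ) (i : ℤ) (t : J) (h : ((ev t).obj K).ExactAt i) :
      IsZero ((K.homology i).obj t) :=
    h.isZero_homology.of_iso ((K.sc i).mapHomologyIso ((evaluation J A).obj t)).symm

/-- Bounded below complexes of diagrams have pointwise injective resolutions. -/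
theorem exists_resolution [HasLimitsOfSize.{u, u} A] [HasColimitsOfSize.{u, u} A] [AB4OfSize.{u} A] [EnoughInjectives A]
    (K : CochainComplex (J ⥤ A) ℤ) (n : ℤ) (h : ∀ t, ∀ i < n, ((ev t).obj K).ExactAt i) :
    ∃ (L : CochainComplex (J ⥤ A) ℤ) (s : K ⟶ L), L.IsStrictlyGE n ∧ (∀ i t, Injective ((L.X i).obj t)) ∧ QuasiIso s := by
  haveI : K.IsGE n := (CochainComplex.isGE_iff K n).2 fun i hi => exactAt_of_ev K i fun t => h t i hi
  haveI := enoughInjectives_functor (A := A) (J := J)
  obtain ⟨L, s, hs, hL, hLn⟩ := CochainComplex.Plus.modelCategoryQuillen.exists_quasiIso_injective (K.truncGE n) n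
  haveI := hs
  exact ⟨L, K.πTruncGE n ≫ s, hLn, fun i t => (haveI := hL i; injective_obj (L.X i) t), inferInstance⟩

section Colim

variable [HasColimitsOfShape J A]

/-- Colimit of a complex of diagrams. -/
noncomputable abbrev colimHC : CochainComplex (J ⥤ A) ℤ ⥤ CochainComplex A ℤ :=
  (colim : (J ⥤ A) ⥤ A).mapHomologicalComplex (ComplexShape.up ℤ)

/-- The coprojection. -/
noncomputable def τ (t : J) : (evaluation J A).obj t ⟶ colim where
  app G := colimit.ι G t
  naturality _ _ g := (ι_colimMap g t).symm

/-- The colimit cocone of a complex of diagrams. -/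
noncomputable def colimCocone (K : CochainComplex (J ⥤ A) ℤ) : Cocone K.asFunctor where
  pt := colimHC.obj K
  ι :=
    { app := fun t => ((NatTrans.mapHomologicalComplex (τ t) (ComplexShape.up ℤ)).app K :)
      naturality := fun s t g => by
        ext i
        exact (colimit.w (K.X i) g).trans (Category.comp_id _).symm }

/-- It is a colimit. -/
noncomputable def isColimitColimCocone (K : CochainComplex (J ⥤ A) ℤ) : IsColimit (colimCocone K) :=
  isColimitOfEval _ _ fun i =>
    (IsColimit.precomposeHomEquiv (NatIso.ofComponents (fun _ => Iso.refl _) (fun _ => by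
        simp) : K.X i ≅ K.asFunctor ⋙ HomologicalComplex.eval A (ComplexShape.up ℤ) i) _)
      (IsColimit.ofIsoColimit (colimit.isColimit (K.X i)) (Cocone.ext (Iso.refl _) fun t => by
        simp [colimCocone, τ]))

variable [HasExactColimitsOfShape J A]

/-- Homology of complexes commutes with exact colimits. -/
theorem preservesColimitsOfShape_homology (i : ℤ) :
    PreservesColimitsOfShape J (HomologicalComplex.homologyFunctor A (ComplexShape.up ℤ) i) where
  preservesColimit {C} := by
    haveI : PreservesColimit (ofDiag C).asFunctor (HomologicalComplex.homologyFunctor A (ComplexShape.up ℤ) i) := by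
      refine preservesColimit_of_preserves_colimit_cocone (isColimitColimCocone (ofDiag C)) ?_
      let M := ofDiag C
      let S := M.sc i
      let ψ : S.homology ≅ M.asFunctor ⋙ HomologicalComplex.homologyFunctor A (ComplexShape.up ℤ) i :=
        NatIso.ofComponents (fun t => (S.mapHomologyIso ((evaluation J A).obj t)).symm) fun {s t} g => by
          have := ShortComplex.homologyMap_mapNatTrans S ((evaluation J A).map g)
          show S.homology.map g ≫ _ = _ ≫ ShortComplex.homologyMap (S.mapNatTrans ((evaluation J A).map g))
          simp [this]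
      refine (IsColimit.precomposeHomEquiv ψ _) (IsColimit.ofIsoColimit (colimit.isColimit S.homology)
        (Cocone.ext (S.mapHomologyIso colim).symm fun t => ?_))
      have := ShortComplex.homologyMap_mapNatTrans S (τ (A := A) t)
      show colimit.ι S.homology t ≫ _ =
        (S.mapHomologyIso ((evaluation J A).obj t)).inv ≫ ShortComplex.homologyMap (S.mapNatTrans (τ t))
      rw [this]; simp [τ]
    exact preservesColimit_of_iso_diagram _ (ofDiagIso C).symm

end Colim

end Groth.Agent.RpushColim16
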