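import Groth.Agent.RpushColim16.Gen
import Groth.Agent.S0800
import Groth.Agent.DQCoh.AcyclicPush
import Groth.Agent.DQCoh.Local
import Groth.Agent.SerreDual.Colim
import Groth.Agent.SerreDual.QCohCat

/-!
# `Rf_*` and filtered colimits of complexes
-/

set_option autoImplicit false
set_option backward.isDefEq.respectTransparency false
set_option backward.defeqAttrib.useBackward true
set_option linter.style.haveILetI false
set_option synthInstance.maxHeartbeats 200000
set_option maxHeartbeats 1000000

universe u

open CategoryTheory CategoryTheory.Limits CategoryTheory.Pretriangulated DerivedCategory AlgebraicGeometry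
open HomologicalComplex
open Groth.Agent.DCat Groth.Agent.Coherent Groth.Agent.DQCoh

attribute [local instance] HasDerivedCategory.standard

namespace Groth.Agent.RpushColim16

variable {X Y : Scheme.{u}} {J : Type u} [SmallCategory J] [IsFiltered J]

theorem hasInjectiveResolutions (X : Scheme.{u}) : HasInjectiveResolutions X.Modules :=
  haveI : IsGrothendieckAbelian.{u} X.Modules := DCat.schemeModules_isGrothendieckAbelian X
  inferInstance

theorem preservesColimitsOfShape_Rpush (f : X ⟶ Y) [QuasiCompact f] [QuasiSeparated f]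
    [HasInjectiveResolutions X.Modules] (p : ℕ) : PreservesColimitsOfShape J (Coh.Rpush f p) := by
  haveI : PreservesColimitsOfShape J (toAbFunctor X) := SerreDual.preservesColimitsOfShape_toAb X J
  haveI : PreservesColimitsOfShape J (toAbFunctor Y) := SerreDual.preservesColimitsOfShape_toAb Y J
  haveI : PreservesColimitsOfShape J (Coh.RpushAb f p) := S0800.preserves f p J
  haveI : PreservesColimitsOfShape J (Coh.Rpush f p ⋙ toAbFunctor Y) :=
    preservesColimitsOfShape_of_natIso (toAbRpushNatIso f p).symm
  haveI : IsGrothendieckAbelian.{u} Y.Modules := DCat.schemeModules_isGrothendieckAbelian Y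
  haveI : ReflectsColimitsOfShape J (toAbFunctor Y) :=
    reflectsColimitsOfShape_of_reflectsIsomorphisms
  exact preservesColimitsOfShape_of_reflects_of_preserves _ (toAbFunctor Y)

theorem preservesColimitsOfShape_push (f : X ⟶ Y) [QuasiCompact f] [QuasiSeparated f] :
    PreservesColimitsOfShape J (Scheme.Modules.pushforward f) := by
  haveI := hasInjectiveResolutions X
  haveI := preservesColimitsOfShape_Rpush (J := J) f 0
  haveI := (Scheme.Modules.pullbackPushforwardAdjunction f).rightAdjoint_preservesLimits
  exact preservesColimitsOfShape_of_natIso (F := Coh.Rpush f 0)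
    (Scheme.Modules.pushforward f).rightDerivedZeroIsoSelf

variable (f : X ⟶ Y) [DCoh.HasRpush f]

/-- `f_*` on complexes. -/
noncomputable abbrev pushHC : CochainComplex X.Modules ℤ ⥤ CochainComplex Y.Modules ℤ :=
  (Scheme.Modules.pushforward f).mapHomologicalComplex (ComplexShape.up ℤ)

/-- The unit of `Rf_*` at a complex. -/
noncomputable abbrev unitAt (P : CochainComplex X.Modules ℤ) :=
  ((DCoh.pushKh f).totalRightDerivedUnit DerivedCategory.Qh (HomotopyCategory.quasiIso X.Modules (ComplexShape.up ℤ))).app
      ((HomotopyCategory.quotient X.Modules (ComplexShape.up ℤ)).obj P)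

/-- The comparison from termwise direct image to `Rf_*`. -/
noncomputable def θ : pushHC f ⋙ DerivedCategory.Q ⟶ DerivedCategory.Q ⋙ DCoh.Rpush f :=
  Functor.whiskerLeft (pushHC f) (DerivedCategory.quotientCompQhIso Y.Modules).inv ≫
    Functor.whiskerLeft (HomotopyCategory.quotient X.Modules (ComplexShape.up ℤ))
      ((DCoh.pushKh f).totalRightDerivedUnit DerivedCategory.Qh (HomotopyCategory.quasiIso X.Modules (ComplexShape.up ℤ))) ≫
    Functor.whiskerRight (DerivedCategory.quotientCompQhIso X.Modules).hom (DCoh.Rpush f)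

theorem isIso_θ {P : CochainComplex X.Modules ℤ} (h : IsIso (unitAt f P)) : IsIso ((θ f).app P) := by
  haveI := h
  simp only [θ, NatTrans.comp_app, Functor.whiskerLeft_app, Functor.whiskerRight_app]
  infer_instance

theorem unit_of_θ {P : CochainComplex X.Modules ℤ} (h : IsIso ((θ f).app P)) : IsIso (unitAt f P) := by
  simp only [θ, NatTrans.comp_app, Functor.whiskerLeft_app, Functor.whiskerRight_app] at h
  haveI : IsIso (unitAt f P ≫ (DCoh.Rpush f).map ((DerivedCategory.quotientCompQhIso X.Modules).hom.app P)) :=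
    @IsIso.of_isIso_comp_left _ _ _ _ _ ((DerivedCategory.quotientCompQhIso Y.Modules).inv.app _) _ _ h
  exact IsIso.of_isIso_comp_right _ ((DCoh.Rpush f).map ((DerivedCategory.quotientCompQhIso X.Modules).hom.app P))

theorem θ_iff_of_quasiIso {P L : CochainComplex X.Modules ℤ} (s : P ⟶ L) [QuasiIso s] (hL : IsIso ((θ f).app L)) :
    IsIso ((θ f).app P) ↔ QuasiIso ((pushHC f).map s) := by
  rw [← DerivedCategory.isIso_Q_map_iff_quasiIso]
  haveI := hL
  haveI : IsIso (DerivedCategory.Q.map s) := inferInstance
  haveI : IsIso ((DerivedCategory.Q ⋙ DCoh.Rpush f).map s) :=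
    inferInstanceAs (IsIso ((DCoh.Rpush f).map (DerivedCategory.Q.map s)))
  have hn := (θ f).naturality s
  constructor
  · intro _
    haveI : IsIso ((pushHC f ⋙ DerivedCategory.Q).map s ≫ (θ f).app L) := hn ▸ inferInstance
    exact (IsIso.of_isIso_comp_right ((pushHC f ⋙ DerivedCategory.Q).map s) ((θ f).app L) :)
  · intro h
    haveI : IsIso ((pushHC f ⋙ DerivedCategory.Q).map s) := h
    haveI : IsIso ((θ f).app P ≫ (DerivedCategory.Q ⋙ DCoh.Rpush f).map s) := hn ▸ inferInstance
    exact IsIso.of_isIso_comp_right _ ((DerivedCategory.Q ⋙ DCoh.Rpush f).map s)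

variable [QuasiCompact f] [QuasiSeparated f]

/-- Complexes of diagrams have resolutions computing `Rf_*` at each stage and at the colimit. -/
theorem exists_adapted (K : CochainComplex (J ⥤ X.Modules) ℤ) (n : ℤ)
    (h : ∀ t, ∀ i < n, ((ev t).obj K).ExactAt i) :
    ∃ (L : CochainComplex (J ⥤ X.Modules) ℤ) (s : K ⟶ L), QuasiIso s ∧
      (∀ t, IsIso ((θ f).app ((ev t).obj L))) ∧ IsIso ((θ f).app (colimHC.obj L)) := by
  haveI : IsGrothendieckAbelian.{u} X.Modules := DCat.schemeModules_isGrothendieckAbelian X
  haveI := hasInjectiveResolutions X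
  obtain ⟨L, s, hLn, hL, hs⟩ := exists_resolution K n h
  haveI := hLn
  refine ⟨L, s, hs, fun t => ?_, ?_⟩
  · haveI : ((ev t).obj L).IsStrictlyGE n := (CochainComplex.isStrictlyGE_iff _ _).2 fun i hi =>
      ((evaluation J X.Modules).obj t).map_isZero (CochainComplex.isZero_of_isStrictlyGE L n i hi)
    exact isIso_θ f (isIso_unit_boundedBelow f _ n fun i =>
      haveI : Injective (((ev t).obj L).X i) := hL i t
      DCat.Acyclic.acy_injective _)
  · haveI : (colimHC.obj L).IsStrictlyGE n := (CochainComplex.isStrictlyGE_iff _ _).2 fun i hi =>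
      colim.map_isZero (CochainComplex.isZero_of_isStrictlyGE L n i hi)
    refine isIso_θ f (isIso_unit_boundedBelow f _ n fun i p hp => ?_)
    haveI := preservesColimitsOfShape_Rpush (J := J) f p
    refine IsZero.of_iso (colim.map_isZero (Functor.isZero (L.X i ⋙ Coh.Rpush f p) fun t => ?_))
      (preservesColimitIso (Coh.Rpush f p) (L.X i))
    haveI := hL i t
    exact DCat.Acyclic.acy_injective (F := Scheme.Modules.pushforward f) _ p hp

/-- A colimit of complexes computed by `f_*` is computed by `f_*`. -/
theorem isIso_θ_colim (K : CochainComplex (J ⥤ X.Modules) ℤ) (n : ℤ)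
    (h : ∀ t, ∀ i < n, ((ev t).obj K).ExactAt i) (hθ : ∀ t, IsIso ((θ f).app ((ev t).obj K))) :
    IsIso ((θ f).app (colimHC.obj K)) := by
  haveI : IsGrothendieckAbelian.{u} X.Modules := DCat.schemeModules_isGrothendieckAbelian X
  haveI : IsGrothendieckAbelian.{u} Y.Modules := DCat.schemeModules_isGrothendieckAbelian Y
  obtain ⟨L, s, hs, hLt, hLi⟩ := exists_adapted f K n h
  haveI := hs
  haveI := preservesColimitsOfShape_push (J := J) f
  haveI : QuasiIso (colimHC.map s) := inferInstance
  refine (θ_iff_of_quasiIso f (colimHC.map s) hLi).2 ?_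
  let W := ((Functor.whiskeringRight J _ _).obj (Scheme.Modules.pushforward f))
  let s' := (W.mapHomologicalComplex (ComplexShape.up ℤ)).map s
  haveI : QuasiIso s' := (HomologicalComplex.quasiIso_iff_evaluation s').2 fun t => by
    haveI : QuasiIso ((ev t).map s) := inferInstance
    exact (θ_iff_of_quasiIso f ((ev t).map s) (hLt t)).1 (hθ t)
  haveI : QuasiIso (colimHC.map s') := inferInstance
  let e := NatIso.mapHomologicalComplex (preservesColimitNatIso (J := J) (Scheme.Modules.pushforward f)) (ComplexShape.up ℤ)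
  have hn : (pushHC f).map (colimHC.map s) = e.hom.app K ≫ colimHC.map s' ≫ e.inv.app L := by
    rw [← Iso.app_hom, ← Iso.app_inv, ← Category.assoc, Iso.eq_comp_inv]
    exact e.hom.naturality s
  rw [hn]
  exact quasiIso_comp _ _

/-- Cohomology of `Rf_*` of a uniformly bounded below filtered colimit. -/
noncomputable def isColimit_HD_Rpush (K : CochainComplex (J ⥤ X.Modules) ℤ) (n : ℤ)
    (h : ∀ t, ∀ i < n, ((ev t).obj K).ExactAt i) (i : ℤ) :
    IsColimit ((DerivedCategory.Q ⋙ DCoh.Rpush f ⋙ DerivedCategory.homologyFunctor Y.Modules i).mapCocone (colimCocone K)) := by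
  haveI : IsGrothendieckAbelian.{u} X.Modules := DCat.schemeModules_isGrothendieckAbelian X
  haveI : IsGrothendieckAbelian.{u} Y.Modules := DCat.schemeModules_isGrothendieckAbelian Y
  choose L s hs hLt hLi using exists_adapted f K n h
  haveI := hs
  haveI := preservesColimitsOfShape_push (J := J) f
  let Φ := DerivedCategory.Q ⋙ DCoh.Rpush f ⋙ DerivedCategory.homologyFunctor Y.Modules i
  let Ψ := pushHC f ⋙ DerivedCategory.Q ⋙ DerivedCategory.homologyFunctor Y.Modules i
  let ω : Ψ ⟶ Φ := Functor.whiskerRight (θ f) (DerivedCategory.homologyFunctor Y.Modules i)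
  haveI hω₁ : ∀ t, IsIso (ω.app (L.asFunctor.obj t)) := fun t =>
    haveI : IsIso ((θ f).app (L.asFunctor.obj t)) := hLt t
    inferInstanceAs (IsIso ((DerivedCategory.homologyFunctor Y.Modules i).map ((θ f).app (L.asFunctor.obj t))))
  haveI hω₂ : IsIso (ω.app (colimCocone L).pt) :=
    haveI : IsIso ((θ f).app (colimCocone L).pt) := hLi
    inferInstanceAs (IsIso ((DerivedCategory.homologyFunctor Y.Modules i).map ((θ f).app (colimCocone L).pt)))
  haveI : PreservesColimitsOfShape J (pushHC f) :=
    ⟨fun {G} => ⟨fun {c} hc => ⟨isColimitOfEval _ _ fun j =>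
      isColimitOfPreserves (HomologicalComplex.eval X.Modules (ComplexShape.up ℤ) j ⋙ Scheme.Modules.pushforward f) hc⟩⟩⟩
  haveI := preservesColimitsOfShape_homology (A := Y.Modules) (J := J) i
  haveI : PreservesColimitsOfShape J (DerivedCategory.Q ⋙ DerivedCategory.homologyFunctor Y.Modules i) :=
    preservesColimitsOfShape_of_natIso (DerivedCategory.homologyFunctorFactors Y.Modules i).symm
  haveI : PreservesColimitsOfShape J Ψ := comp_preservesColimitsOfShape _ _
  let hL : IsColimit (Φ.mapCocone (colimCocone L)) :=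
    IsColimit.ofIsoColimit
      ((IsColimit.precomposeHomEquiv (NatIso.ofComponents (fun t => (asIso (ω.app (L.asFunctor.obj t))).symm)
        (fun g => by simp [← cancel_epi (ω.app _)]) : L.asFunctor ⋙ Φ ≅ L.asFunctor ⋙ Ψ) _).symm
          (isColimitOfPreserves Ψ (isColimitColimCocone L)))
      (Cocone.ext (asIso (ω.app (colimCocone L).pt)) fun t => by
        simp [← cancel_epi (ω.app (L.asFunctor.obj t))])
  let σ := HomologicalComplex.complexOfFunctorsToFunctorToComplex.map s
  haveI : ∀ t, IsIso (Φ.map (σ.app t)) := fun t => by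
    haveI : QuasiIso (σ.app t) := inferInstanceAs (QuasiIso ((ev t).map s))
    exact inferInstanceAs (IsIso ((DCoh.Rpush f ⋙ DerivedCategory.homologyFunctor Y.Modules i).map
      (DerivedCategory.Q.map (σ.app t))))
  haveI : IsIso (Φ.map (colimHC.map s)) := by
    haveI : QuasiIso (colimHC.map s) := inferInstance
    exact inferInstanceAs (IsIso ((DCoh.Rpush f ⋙ DerivedCategory.homologyFunctor Y.Modules i).map
      (DerivedCategory.Q.map (colimHC.map s))))
  haveI : ∀ t, IsIso ((Functor.whiskerRight σ Φ).app t) := fun t => inferInstanceAs (IsIso (Φ.map (σ.app t)))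
  haveI : IsIso (Functor.whiskerRight σ Φ) := NatIso.isIso_of_isIso_app _
  refine IsColimit.ofIsoColimit ((IsColimit.precomposeHomEquiv (asIso (Functor.whiskerRight σ Φ)) _).symm hL)
    (Cocone.ext (asIso (Φ.map (colimHC.map s))).symm fun t => ?_)
  have hc : σ.app t ≫ (colimCocone L).ι.app t = (colimCocone K).ι.app t ≫ colimHC.map s := by
    refine HomologicalComplex.hom_ext _ _ fun j => ?_
    exact (ι_colimMap (s.f j) t).symm
  show (Φ.map (σ.app t) ≫ Φ.map ((colimCocone L).ι.app t)) ≫ inv (Φ.map (colimHC.map s)) = _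
  rw [IsIso.comp_inv_eq, ← Φ.map_comp, hc, Φ.map_comp]
  rfl

end Groth.Agent.RpushColim16
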